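import Groth.Agent.Lib.QFDense6.Scheme
import Mathlib.AlgebraicGeometry.ZariskisMainTheorem
import Mathlib.AlgebraicGeometry.Limits

/-!
# A quasi-finite morphism is finite over a dense open
-/

universe u

open AlgebraicGeometry CategoryTheory Limits

namespace GrothLib.QFDense6

variable {X Y : Scheme.{u}}

theorem universallyClosed_of_finite_cover {Z V : Scheme.{u}} (h : Z ⟶ V) {ι : Type u} [Finite ι]
    (W : ι → Scheme.{u}) (j : ∀ i, W i ⟶ Z) (hcov : ∀ z, ∃ i, z ∈ Set.range (j i))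
    (hj : ∀ i, UniversallyClosed (j i ≫ h)) : UniversallyClosed h := by
  constructor
  intro Z' V' i₁ i₂ h' H T hT
  have hu : ∀ i, IsClosedMap (pullback.fst i₁ (j i) ≫ h') := fun i =>
    haveI := hj i
    UniversallyClosed.universally_isClosedMap (f := j i ≫ h) _ _ _
      ((IsPullback.of_hasPullback i₁ (j i)).flip.paste_vert H.flip).flip
  have hsurj : ∀ z' : Z', ∃ i, z' ∈ Set.range (pullback.fst i₁ (j i)) := fun z' => by
    obtain ⟨i, hi⟩ := hcov (i₁ z')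
    exact ⟨i, by rw [Scheme.Pullback.range_fst]; exact hi⟩
  have : h' '' T = ⋃ i, (pullback.fst i₁ (j i) ≫ h') '' (pullback.fst i₁ (j i) ⁻¹' T) := by
    ext v
    constructor
    · rintro ⟨z', hz', rfl⟩
      obtain ⟨i, w, rfl⟩ := hsurj z'
      exact Set.mem_iUnion.mpr ⟨i, w, hz', rfl⟩
    · rintro hv
      obtain ⟨i, w, hw, rfl⟩ := Set.mem_iUnion.mp hv
      exact ⟨_, hw, rfl⟩
  rw [this]
  exact isClosed_iUnion_of_finite fun i => hu i _ (hT.preimage (pullback.fst i₁ (j i)).continuous)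

theorem finite_resLE_basicOpen (f : Y ⟶ X) [LocallyQuasiFinite f] [LocallyOfFiniteType f]
    {V : X.Opens} (hV : IsAffineOpen V) {W : Y.Opens} (hW : IsAffineOpen W) (e : W ≤ f ⁻¹ᵁ V)
    (p : PrimeSpectrum Γ(X, V)) (hp : p.asIdeal ∈ minimalPrimes Γ(X, V)) :
    ∃ h ∉ p.asIdeal, ∀ g : Γ(X, V), h ∣ g → ∀ (e' : W ⊓ f ⁻¹ᵁ X.basicOpen g ≤ f ⁻¹ᵁ X.basicOpen g),
      IsFinite (f.resLE (X.basicOpen g) (W ⊓ f ⁻¹ᵁ X.basicOpen g) e') := by
  let R : CommRingCat.{u} := Γ(X, V)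
  let A : CommRingCat.{u} := Γ(Y, W)
  letI := (f.appLE V W e).hom.toAlgebra
  haveI : Algebra.FiniteType R A := HasRingHomProperty.appLE @LocallyOfFiniteType f inferInstance ⟨V, hV⟩ ⟨W, hW⟩ e
  haveI : Algebra.QuasiFinite R A := HasRingHomProperty.appLE @LocallyQuasiFinite f inferInstance ⟨V, hV⟩ ⟨W, hW⟩ e
  obtain ⟨h, hh, hfin⟩ := finite_away_map (R := R) (A := A) p.asIdeal hp
  refine ⟨h, hh, fun g hg => ?_⟩
  have hWg : W ⊓ f ⁻¹ᵁ X.basicOpen g = Y.basicOpen (f.appLE V W e g) := by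
    rw [Scheme.Hom.appLE, CommRingCat.comp_apply, Scheme.basicOpen_res, Scheme.preimage_basicOpen]
  rw [hWg]
  intro e'
  letI := hV.isLocalization_basicOpen g
  letI := hW.isLocalization_basicOpen (f.appLE V W e g)
  have happ : (f.appLE (X.basicOpen g) (Y.basicOpen (f.appLE V W e g)) e').hom.Finite := by
    rw [IsAffineOpen.appLE_eq_away_map f hV hW e g]
    haveI : IsLocalization.Away (algebraMap R A g) Γ(Y, Y.basicOpen (f.appLE V W e g)) :=
      hW.isLocalization_basicOpen (f.appLE V W e g)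
    exact hfin g Γ(X, X.basicOpen g) Γ(Y, Y.basicOpen (f.appLE V W e g)) hg
  have hVg := hV.basicOpen g
  have hWg' := hW.basicOpen (f.appLE V W e g)
  have : f.resLE (X.basicOpen g) (Y.basicOpen (f.appLE V W e g)) e' =
      hWg'.isoSpec.hom ≫ Spec.map (f.appLE (X.basicOpen g) (Y.basicOpen (f.appLE V W e g)) e') ≫ hVg.isoSpec.inv := by
    rw [← cancel_mono (X.basicOpen g).ι, Scheme.Hom.resLE_comp_ι, Category.assoc, Category.assoc,
      IsAffineOpen.isoSpec_inv_ι, hVg.SpecMap_appLE_fromSpec f hWg' e', ← IsAffineOpen.isoSpec_inv_ι,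
      Category.assoc, Iso.hom_inv_id_assoc]
  rw [this]
  haveI := (IsFinite.SpecMap_iff _).mpr happ
  infer_instance

theorem exists_finite_open (f : Y ⟶ X) [LocallyQuasiFinite f] [LocallyOfFiniteType f] [QuasiCompact f]
    (O : Set X) (hO : IsOpen O) (hne : O.Nonempty) :
    ∃ V : X.Opens, (V : Set X) ⊆ O ∧ (V : Set X).Nonempty ∧ IsFinite (f ∣_ V) := by
  classical
  obtain ⟨x, hx⟩ := hne
  obtain ⟨_, ⟨(V : X.Opens), hV, rfl⟩, hxV, hVO⟩ := X.isBasis_affineOpens.exists_subset_of_mem_open hx hO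
  obtain ⟨t, ht, htf, htcov⟩ := Y.isBasis_affineOpens.exists_finite_of_isCompact
    (U := f ⁻¹ᵁ V) (QuasiCompact.isCompact_preimage (f := f) (V : Set X) V.2 hV.isCompact)
  haveI := htf.to_subtype
  letI := Fintype.ofFinite t
  have hle : ∀ W : t, W.1 ≤ f ⁻¹ᵁ V := fun W => htcov ▸ le_sSup W.2
  obtain ⟨q, -, -, hqmin⟩ := exists_minimal_mem (1 : Γ(X, V)) (hV.primeIdealOf ⟨x, hxV⟩)
    fun h => (hV.primeIdealOf ⟨x, hxV⟩).isPrime.ne_top ((Ideal.eq_top_iff_one _).mpr h)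
  choose h hh hfin using fun W : t => finite_resLE_basicOpen f hV (ht W.2) (hle W) q hqmin
  let h₀ := ∏ W, h W
  have hh₀ : h₀ ∉ q.asIdeal := fun hm => by
    obtain ⟨W, -, hW⟩ := q.isPrime.prod_mem_iff.mp hm
    exact hh W hW
  let Bad : Set X := closure (⋃ W : t, f '' frontier ((W.1 : Y.Opens) : Set Y))
  have hBad : interior Bad = ∅ := isNowhereDense_iUnion_finite _ fun W : t =>
    isNowhereDense_image f _ isClosed_frontier
      ((isClosed_frontier.isNowhereDense_iff).mpr (by rw [← frontier_compl]; exact interior_frontier W.1.2.isClosed_compl))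
  have hq₀ : hV.fromSpec q ∈ X.basicOpen h₀ := by
    show q ∈ hV.fromSpec ⁻¹ᵁ X.basicOpen h₀
    rw [hV.fromSpec_preimage_basicOpen]
    exact hh₀
  obtain ⟨y, hy, hyBad⟩ : ∃ y, y ∈ X.basicOpen h₀ ∧ y ∉ Bad := by
    by_contra hcon
    push Not at hcon
    have := interior_maximal (fun y hy => hcon y hy) (X.basicOpen h₀).2 hq₀
    rw [hBad] at this
    exact this
  have hyV : y ∈ V := X.basicOpen_le h₀ hy
  obtain ⟨g', hg', hyg'⟩ := hV.exists_basicOpen_le (V := ⟨Badᶜ, isClosed_closure.isOpen_compl⟩) ⟨y, hyBad⟩ hyV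
  let g := h₀ * g'
  let V₁ := X.basicOpen g
  have hyV₁ : y ∈ V₁ := by
    show y ∈ X.basicOpen (h₀ * g')
    rw [Scheme.basicOpen_mul]
    exact ⟨hy, hyg'⟩
  have hV₁le : V₁ ≤ V := X.basicOpen_le g
  refine ⟨V₁, (Set.Subset.trans hV₁le hVO), ⟨y, hyV₁⟩, ?_⟩
  have hV₁ : IsAffineOpen V₁ := hV.basicOpen g
  have hclop : ∀ W : t, ∀ z, f z ∈ V₁ → z ∈ closure ((W.1 : Y.Opens) : Set Y) → z ∈ W.1 := fun W z hz hcl => by
    by_contra hzW
    have : f z ∈ Bad := subset_closure (Set.mem_iUnion.mpr ⟨W, z, ⟨hcl, fun hi => hzW (interior_subset hi)⟩, rfl⟩)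
    have h2 : f z ∈ X.basicOpen g' := by
      rw [show V₁ = X.basicOpen h₀ ⊓ X.basicOpen g' from Scheme.basicOpen_mul _ _ _] at hz
      exact hz.2
    exact hg' h2 this
  let W₁ : t → Y.Opens := fun W => W.1 ⊓ f ⁻¹ᵁ V₁
  have hW₁fin : ∀ W : t, IsFinite (f.resLE V₁ (W₁ W) inf_le_right) := fun W =>
    hfin W g ((Finset.dvd_prod_of_mem _ (Finset.mem_univ W)).trans (dvd_mul_right _ _)) inf_le_right
  haveI : IsAffine V₁.toScheme := hV₁
  have hW₁aff : ∀ W : t, IsAffineOpen (W₁ W) := fun W => by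
    haveI := hW₁fin W
    exact isAffine_of_isAffineHom (f.resLE V₁ (W₁ W) inf_le_right)
  have hcovY : ∀ z, f z ∈ V₁ → ∃ W : t, z ∈ W₁ W := fun z hz => by
    have : z ∈ f ⁻¹ᵁ V := hV₁le hz
    rw [htcov] at this
    obtain ⟨W, hW, hzW⟩ := TopologicalSpace.Opens.mem_sSup.mp this
    exact ⟨⟨W, hW⟩, hzW, hz⟩
  -- disjoint affine clopen pieces
  let e := Fintype.equivFin t
  let D : t → Y.Opens := fun W => W₁ W ⊓
    ⟨(⋃ W' ∈ {W' : t | e W' < e W}, closure ((W'.1 : Y.Opens) : Set Y))ᶜ,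
      ((Set.toFinite _).isClosed_biUnion fun _ _ => isClosed_closure).isOpen_compl⟩
  have hDaff : ∀ W : t, IsAffineOpen (D W) := fun W => by
    have hle' : D W ≤ W₁ W := inf_le_left
    let j := Y.homOfLE hle'
    have hrange : Set.range j =
        ((W₁ W).ι ⁻¹' ((⋃ W' ∈ {W' : t | e W' < e W}, ((W'.1 : Y.Opens) : Set Y))ᶜ)) := by
      ext z
      constructor
      · rintro ⟨z', rfl⟩ hmem
        obtain ⟨W', hW', hz⟩ := Set.mem_iUnion₂.mp hmem
        rw [← Scheme.Hom.comp_apply, Scheme.homOfLE_ι] at hz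
        exact z'.2.2 (Set.mem_biUnion hW' (subset_closure hz))
      · intro hz
        refine ⟨⟨z.1, z.2, fun hmem => hz ?_⟩, ?_⟩
        · obtain ⟨W', hW', hz'⟩ := Set.mem_iUnion₂.mp hmem
          exact Set.mem_biUnion hW' (hclop W' z.1 z.2.2 hz')
        · exact (W₁ W).ι.isOpenEmbedding.injective (by rw [← Scheme.Hom.comp_apply, Scheme.homOfLE_ι]; rfl)
    haveI : IsClosedImmersion j := IsClosedImmersion.of_isPreimmersion j (by
      rw [hrange]
      refine IsClosed.preimage (W₁ W).ι.continuous (IsOpen.isClosed_compl ?_)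
      exact isOpen_biUnion fun W' _ => W'.1.2)
    haveI : IsAffine (W₁ W).toScheme := hW₁aff W
    exact isAffine_of_isAffineHom j
  have hY₁ : IsAffineOpen (f ⁻¹ᵁ V₁) := by
    have heq : f ⁻¹ᵁ V₁ = ⨆ W, D W := by
      refine le_antisymm (fun z hz => ?_) (iSup_le fun W => inf_le_left.trans inf_le_right)
      let S : Finset t := Finset.univ.filter fun W => z ∈ W₁ W
      obtain ⟨W₀, hW₀, hmin⟩ := S.exists_min_image e (by
        obtain ⟨W, hW⟩ := hcovY z hz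
        exact ⟨W, Finset.mem_filter.mpr ⟨Finset.mem_univ _, hW⟩⟩)
      refine TopologicalSpace.Opens.mem_iSup.mpr ⟨W₀, (Finset.mem_filter.mp hW₀).2, fun hmem => ?_⟩
      obtain ⟨W', hW', hz'⟩ := Set.mem_iUnion₂.mp hmem
      exact not_lt_of_ge (hmin W' (Finset.mem_filter.mpr ⟨Finset.mem_univ _, hclop W' z hz hz', hz⟩)) hW'
    rw [heq]
    refine IsAffineOpen.iSup_of_disjoint hDaff fun W W' hne => ?_
    rw [Function.onFun, ← TopologicalSpace.Opens.coe_disjoint, Set.disjoint_left]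
    rintro z ⟨hz1, hz1'⟩ ⟨hz2, hz2'⟩
    rcases lt_or_gt_of_ne (fun h => hne (e.injective h)) with hlt | hlt
    · exact hz2' (Set.mem_biUnion hlt (subset_closure hz1.1))
    · exact hz1' (Set.mem_biUnion hlt (subset_closure hz2.1))
  haveI : IsAffine (f ⁻¹ᵁ V₁).toScheme := hY₁
  haveI : UniversallyClosed (f ∣_ V₁) := universallyClosed_of_finite_cover (f ∣_ V₁) (fun W : t => (W₁ W).toScheme)
    (fun W => Y.homOfLE inf_le_right) (fun z => by
      obtain ⟨W, hW⟩ := hcovY z.1 z.2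
      exact ⟨W, ⟨z.1, hW⟩, (f ⁻¹ᵁ V₁).ι.isOpenEmbedding.injective (by rw [← Scheme.Hom.comp_apply, Scheme.homOfLE_ι]; rfl)⟩)
    fun W => by
      have : Y.homOfLE (inf_le_right : W₁ W ≤ f ⁻¹ᵁ V₁) ≫ f ∣_ V₁ = f.resLE V₁ (W₁ W) inf_le_right := by
        rw [← cancel_mono V₁.ι, Category.assoc, morphismRestrict_ι, Scheme.homOfLE_ι_assoc, Scheme.Hom.resLE_comp_ι]
      rw [this]
      haveI := hW₁fin W
      infer_instance
  haveI : IsProper (f ∣_ V₁) := {}
  exact IsFinite.of_isProper_of_locallyQuasiFinite _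

theorem exists_dense_open_finite (f : Y ⟶ X) [LocallyQuasiFinite f] [LocallyOfFiniteType f] [QuasiCompact f] :
    ∃ U : X.Opens, Dense (U : Set ↑X) ∧ IsFinite (f ∣_ U) := by
  let ι := {V : X.Opens // IsFinite (f ∣_ V)}
  refine ⟨⨆ V : ι, V.1, ?_, ?_⟩
  · rw [dense_iff_inter_open]
    intro O hO hne
    obtain ⟨V, hVO, ⟨y, hy⟩, hfin⟩ := exists_finite_open f O hO hne
    exact ⟨y, hVO hy, TopologicalSpace.Opens.mem_iSup.mpr ⟨⟨V, hfin⟩, hy⟩⟩
  · let U : X.Opens := ⨆ V : ι, V.1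
    refine IsZariskiLocalAtTarget.of_iSup_eq_top (fun V : ι => U.ι ⁻¹ᵁ V.1) ?_ fun V => ?_
    · refine TopologicalSpace.Opens.ext (Set.eq_univ_of_forall fun u => ?_)
      obtain ⟨V, hV⟩ := TopologicalSpace.Opens.mem_iSup.mp u.2
      exact TopologicalSpace.Opens.mem_iSup.mpr ⟨V, hV⟩
    · rw [MorphismProperty.arrow_mk_iso_iff @IsFinite (morphismRestrictRestrict f U (U.ι ⁻¹ᵁ V.1))]
      have he : U.ι ''ᵁ (U.ι ⁻¹ᵁ V.1) = V.1 := by
        rw [Scheme.Hom.image_preimage_eq_opensRange_inf, Scheme.Opens.opensRange_ι, inf_eq_right]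
        exact le_iSup (fun V : ι => V.1) V
      rw [he]
      exact V.2

end GrothLib.QFDense6
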