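import Mathlib.RingTheory.QuasiFinite.Basic
import Mathlib.RingTheory.Spectrum.Prime.Topology
import Mathlib.RingTheory.IntegralClosure.IntegralRestrict
import Mathlib.Topology.GDelta.Basic
import Mathlib.RingTheory.Ideal.GoingUp
import Mathlib.Algebra.Polynomial.Lifts
import Mathlib.RingTheory.Localization.Integer

/-!
# Quasi-finite algebras are finite near a minimal prime; images of nowhere dense sets
-/

universe u

open Polynomial
open scoped nonZeroDivisors TensorProduct

namespace GrothLib.QFDense6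

variable {R A : Type u} [CommRing R] [CommRing A] [Algebra R A]

theorem exists_minimal_mem (h : R) (p : PrimeSpectrum R) (hp : h ∉ p.asIdeal) :
    ∃ q : PrimeSpectrum R, q ≤ p ∧ h ∉ q.asIdeal ∧ q.asIdeal ∈ minimalPrimes R := by
  obtain ⟨q, hq, hle⟩ := Ideal.exists_minimalPrimes_le (I := (⊥ : Ideal R)) (J := p.asIdeal) bot_le
  exact ⟨⟨q, hq.1.1⟩, hle, fun hh => hp (hle hh), hq⟩

/-- Over a minimal prime every element of a quasi-finite algebra satisfies an equation with
leading coefficient outside the prime. -/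
theorem exists_rel [Algebra.QuasiFinite R A] (p : Ideal R) [p.IsPrime] (hp : p ∈ minimalPrimes R) (a : A) :
    ∃ P : R[X], P.leadingCoeff ∉ p ∧ aeval a P = 0 := by
  classical
  let κ := p.ResidueField
  let ι : A →ₐ[R] p.Fiber A := Algebra.TensorProduct.includeRight
  obtain ⟨Q, hQ, hQa⟩ : IsIntegral κ (ι a) := IsIntegral.of_finite κ (ι a)
  obtain ⟨b, hb⟩ := IsLocalization.exist_integer_multiples (R ⧸ p)⁰ (S := κ) (Finset.range (Q.natDegree + 1))
    fun i => Q.coeff i
  obtain ⟨s, hs⟩ := Ideal.Quotient.mk_surjective (b : R ⧸ p)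
  have hs0 : algebraMap R κ s ≠ 0 := fun h => by
    have : (b : R ⧸ p) = 0 := by
      rw [← hs, Ideal.Quotient.eq_zero_iff_mem]
      exact Ideal.algebraMap_residueField_eq_zero.mp h
    exact nonZeroDivisors.coe_ne_zero b this
  have hlift : C (algebraMap R κ s) * Q ∈ lifts (algebraMap R κ) := by
    rw [lifts_iff_coeff_lifts]
    intro n
    rw [coeff_C_mul]
    by_cases hn : n ≤ Q.natDegree
    · obtain ⟨r, hr⟩ := hb n (Finset.mem_range.mpr (Nat.lt_succ_of_le hn))
      obtain ⟨r, rfl⟩ := Ideal.Quotient.mk_surjective r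
      refine ⟨r, ?_⟩
      rw [IsScalarTower.algebraMap_apply R (R ⧸ p) κ, Ideal.Quotient.algebraMap_eq, hr,
        IsScalarTower.algebraMap_apply R (R ⧸ p) κ, Ideal.Quotient.algebraMap_eq, hs, Algebra.smul_def]
    · exact ⟨0, by rw [Q.coeff_eq_zero_of_natDegree_lt (not_le.mp hn), map_zero, mul_zero]⟩
  obtain ⟨P₀, hP₀, hdeg⟩ := exists_natDegree_eq_of_mem_lifts hlift
  have hlc : P₀.leadingCoeff ∉ p := fun h => by
    have h1 : algebraMap R κ P₀.leadingCoeff = 0 := Ideal.algebraMap_residueField_eq_zero.mpr h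
    rw [Polynomial.leadingCoeff, ← coeff_map, hP₀, hdeg, natDegree_C_mul hs0, coeff_C_mul,
      ← Polynomial.leadingCoeff, hQ.leadingCoeff, mul_one] at h1
    exact hs0 h1
  let y := aeval a P₀
  have hy : ι y = 0 := by
    rw [← aeval_algHom_apply, ← aeval_map_algebraMap κ, hP₀, map_mul]
    rw [show aeval (ι a) Q = 0 from hQa, mul_zero]
  -- `y` is nilpotent over `p`
  obtain ⟨t, htp, k, htk⟩ : ∃ t ∉ p, ∃ k : ℕ, algebraMap R A t * y ^ k = 0 := by
    let M := Algebra.algebraMapSubmonoid A p.primeCompl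
    obtain ⟨k, hk⟩ : IsNilpotent (algebraMap A (Localization M) y) := by
      rw [nilpotent_iff_mem_prime]
      intro J hJ
      let z : PrimeSpectrum A := PrimeSpectrum.comap (algebraMap A (Localization M)) ⟨J, hJ⟩
      have hzp : z.asIdeal.comap (algebraMap R A) ≤ p := fun r hr => by
        by_contra hrp
        exact hJ.ne_top (J.eq_top_of_isUnit_mem hr
          (IsLocalization.map_units _ (⟨algebraMap R A r, ⟨r, hrp, rfl⟩⟩ : M)))
      have hz : PrimeSpectrum.comap (algebraMap R A) z = ⟨p, inferInstance⟩ :=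
        PrimeSpectrum.ext (le_antisymm hzp (hp.2 ⟨Ideal.comap_isPrime _ _, bot_le⟩ hzp))
      let w := PrimeSpectrum.preimageOrderIsoFiber R A ⟨p, inferInstance⟩ ⟨z, hz⟩
      have hw : w.asIdeal.comap ι.toRingHom = z.asIdeal :=
        congrArg (fun v => v.1.asIdeal)
          ((PrimeSpectrum.preimageOrderIsoFiber R A ⟨p, inferInstance⟩).symm_apply_apply ⟨z, hz⟩)
      show y ∈ z.asIdeal
      rw [← hw]
      show ι y ∈ w.asIdeal
      rw [hy]
      exact zero_mem _
    rw [← map_pow, IsLocalization.map_eq_zero_iff M] at hk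
    obtain ⟨⟨_, t, ht, rfl⟩, hm⟩ := hk
    exact ⟨t, ht, k, hm⟩
  refine ⟨C t * P₀ ^ k, ?_, by rw [map_mul, map_pow, aeval_C]; exact htk⟩
  have hne : t * P₀.leadingCoeff ^ k ∉ p := fun h =>
    (Ideal.IsPrime.mem_or_mem inferInstance h).elim htp fun h' => hlc (Ideal.IsPrime.mem_of_pow_mem inferInstance k h')
  have hpow : P₀.leadingCoeff ^ k ≠ 0 := fun h => hne (by rw [h, mul_zero]; exact zero_mem _)
  have ht0 : t * P₀.leadingCoeff ^ k ≠ 0 := fun h => hne (h ▸ zero_mem _)
  rwa [leadingCoeff_mul' (by rwa [leadingCoeff_C, leadingCoeff_pow' hpow]), leadingCoeff_C, leadingCoeff_pow' hpow]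

/-- A quasi-finite algebra of finite type is finite after inverting an element outside a given minimal prime. -/
theorem exists_away_finite [Algebra.QuasiFinite R A] [Algebra.FiniteType R A] (p : Ideal R) [p.IsPrime]
    (hp : p ∈ minimalPrimes R) :
    ∃ h ∉ p, ∀ (g : R) (R' A' : Type u) [CommRing R'] [CommRing A'] [Algebra R R'] [Algebra A A'] [Algebra R A']
      [IsScalarTower R A A'] [Algebra R' A'] [IsScalarTower R R' A'] [IsLocalization.Away g R']
      [IsLocalization.Away (algebraMap R A g) A'], h ∣ g → Module.Finite R' A' := by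
  classical
  obtain ⟨G, hG⟩ := ‹Algebra.FiniteType R A›.out
  choose P hP hPa using exists_rel (R := R) (A := A) p hp
  refine ⟨∏ a ∈ G, (P a).leadingCoeff, fun h => ?_, fun g R' A' => ?_⟩
  · obtain ⟨a, -, ha⟩ := (Ideal.IsPrime.prod_mem_iff (hp := inferInstance)).mp h
    exact hP a ha
  intro _ _ _ _ _ _ _ _ _ _ hdvd
  haveI : Algebra.IsIntegral R' A' := ⟨fun x => by
    obtain ⟨⟨a, _, k, rfl⟩, hx⟩ := IsLocalization.surj (Submonoid.powers (algebraMap R A g)) x
    have hint : ∀ a : A, IsIntegral R' (algebraMap A A' a) := by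
      intro a
      let S : Subalgebra R A :=
        ((integralClosure R' A').restrictScalars R).comap (IsScalarTower.toAlgHom R A A')
      suffices a ∈ S from this
      have : Algebra.adjoin R (G : Set A) ≤ S := by
        refine Algebra.adjoin_le fun c hc => ?_
        show IsIntegral R' (algebraMap A A' c)
        obtain ⟨d, hd⟩ : IsUnit (algebraMap R R' (P c).leadingCoeff) := by
          refine isUnit_of_dvd_unit (map_dvd _ ((Finset.dvd_prod_of_mem _ hc).trans hdvd)) ?_
          exact IsLocalization.Away.algebraMap_isUnit g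
        refine ⟨C (↑d⁻¹ : R') * (P c).map (algebraMap R R'), ?_, ?_⟩
        · have hdeg : ((P c).map (algebraMap R R')).leadingCoeff = algebraMap R R' (P c).leadingCoeff := by
            by_cases h0 : algebraMap R R' (P c).leadingCoeff = 0
            · haveI : Subsingleton R' := subsingleton_of_zero_eq_one (by
                rw [h0] at hd
                have := d.mul_inv
                rw [hd, zero_mul] at this
                exact this)
              exact Subsingleton.elim _ _
            · exact leadingCoeff_map_of_leadingCoeff_ne_zero _ h0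
          exact monic_C_mul_of_mul_leadingCoeff_eq_one (by rw [hdeg, ← hd, Units.inv_mul])
        · rw [← aeval_def, map_mul, aeval_map_algebraMap,
            show aeval (algebraMap A A' c) (P c) = 0 by rw [aeval_algebraMap_apply, hPa, map_zero], mul_zero]
      exact this (hG ▸ Algebra.mem_top)
    have hu : IsUnit (algebraMap R' A' (algebraMap R R' g) ^ k) :=
      ((IsLocalization.Away.algebraMap_isUnit (S := R') g).map _).pow k
    obtain ⟨e, he⟩ := ((IsLocalization.Away.algebraMap_isUnit (S := R') g).pow k)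
    rw [map_pow, ← IsScalarTower.algebraMap_apply, IsScalarTower.algebraMap_apply R R' A', ← map_pow, ← he] at hx
    have hxe : x = algebraMap A A' a * algebraMap R' A' ↑e⁻¹ := by
      rw [← hx, mul_assoc, ← map_mul, Units.mul_inv, map_one, mul_one]
    rw [hxe]
    exact (hint a).mul isIntegral_algebraMap⟩
  haveI : Algebra.FiniteType R A' :=
    Algebra.FiniteType.trans (S := A) inferInstance (IsLocalization.finiteType_of_monoid_fg (Submonoid.powers (algebraMap R A g)) A')
  haveI : Algebra.FiniteType R' A' := Algebra.FiniteType.of_restrictScalars_finiteType R R' A'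
  exact Algebra.IsIntegral.finite

/-- The key step: a nowhere dense closed set of a finite algebra does not cover a nonempty open of the base. -/
theorem false_of_finite [Module.Finite R A] (I : Ideal A) (hrad : I.IsRadical)
    (hI : interior (PrimeSpectrum.zeroLocus (I : Set A)) = ∅) (h : R) (hne : ∃ p : PrimeSpectrum R, h ∉ p.asIdeal)
    (himg : ∀ p : PrimeSpectrum R, h ∉ p.asIdeal →
      ∃ z ∈ PrimeSpectrum.zeroLocus (I : Set A), PrimeSpectrum.comap (algebraMap R A) z = p) : False := by
  classical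
  obtain ⟨ne, e, hespan⟩ := Module.Finite.exists_fin (R := R) (M := A)
  let Ok : ℕ → R → Prop := fun n c => (∃ p : PrimeSpectrum R, c ∉ p.asIdeal) ∧ h ∣ c ∧
    ∃ b : Fin n → A, ∀ x : A, ∃ (k : ℕ) (r : Fin n → R), c ^ k • x - ∑ i, r i • b i ∈ I
  have hOk : ∃ n c, Ok n c := ⟨ne, h, hne, dvd_rfl, e, fun x => by
    obtain ⟨r, hr⟩ := (Submodule.mem_span_range_iff_exists_fun R).mp (hespan ▸ Submodule.mem_top : x ∈ _)
    exact ⟨0, r, by rw [pow_zero, one_smul, hr, sub_self]; exact zero_mem _⟩⟩
  obtain ⟨c, hc, hhc, b, hb⟩ := Nat.find_spec hOk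
  -- coefficients of relations are nilpotent on `D(c)`
  have hrel : ∀ r : Fin (Nat.find hOk) → R, (∑ i, r i • b i) ∈ I → ∀ i, IsNilpotent (c * r i) := by
    intro r hr i
    by_contra hnil
    obtain ⟨m, hm⟩ : ∃ m, Nat.find hOk = m + 1 := ⟨_, (Nat.succ_pred_eq_of_pos i.pos).symm⟩
    have hp' : ∃ p : PrimeSpectrum R, c * r i ∉ p.asIdeal := by
      by_contra hcon
      push Not at hcon
      exact hnil (nilpotent_iff_mem_prime.mpr fun J hJ => hcon ⟨J, hJ⟩)
    refine Nat.find_min hOk (show m < Nat.find hOk by omega) ⟨c * r i, hp', hhc.trans (dvd_mul_right _ _), ?_⟩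
    let σ : Fin m → Fin (Nat.find hOk) := fun j => Fin.cast hm.symm ((Fin.cast hm i).succAbove j)
    refine ⟨b ∘ σ, fun x => ?_⟩
    obtain ⟨k, s, hs⟩ := hb x
    refine ⟨k + 1, fun j => c * r i ^ k * (r i * s (σ j) - s i * r (σ j)), ?_⟩
    have hsplit : ∀ f : Fin (Nat.find hOk) → A, ∑ j, f j = f i + ∑ j, f (σ j) := fun f => by
      rw [← (finCongr hm.symm).sum_comp f, Fin.sum_univ_succAbove _ (Fin.cast hm i)]
      rfl
    have h1 : (c * r i ^ k * r i) • (c ^ k • x - ∑ j, s j • b j) + (c * r i ^ k * s i) • (∑ j, r j • b j) ∈ I :=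
      add_mem (Submodule.smul_of_tower_mem _ _ hs) (Submodule.smul_of_tower_mem _ _ hr)
    convert h1 using 1
    rw [hsplit (fun j => s j • b j), hsplit (fun j => r j • b j)]
    simp only [Function.comp_apply, smul_sub, smul_add, Finset.smul_sum, smul_smul, sub_smul, Finset.sum_sub_distrib,
      mul_sub]
    have e1 : c * r i ^ k * r i * c ^ k = (c * r i) ^ (k + 1) := by ring
    have e2 : c * r i ^ k * r i * s i = c * r i ^ k * s i * r i := by ring
    simp only [mul_assoc] at e1 e2 ⊢
    rw [e1, e2]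
    abel
  choose k r hkr using hb
  let g : Fin ne → A := fun j => c ^ k (e j) • e j - ∑ i, r (e j) i • b i
  -- on `D(c)` the ideal is generated by the `g j` and the nilpotents
  have hzero : ∀ z : PrimeSpectrum A, algebraMap R A c ∉ z.asIdeal → (∀ j, g j ∈ z.asIdeal) → I ≤ z.asIdeal := by
    intro z hzc hzG x hx
    obtain ⟨a, ha⟩ := (Submodule.mem_span_range_iff_exists_fun R).mp (hespan ▸ Submodule.mem_top : x ∈ _)
    let K := ∑ j, k (e j)
    let t : Fin (Nat.find hOk) → R := fun i => ∑ j, a j * c ^ (K - k (e j)) * r (e j) i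
    have hK : ∀ j, k (e j) ≤ K := fun j =>
      Finset.single_le_sum (f := fun j => k (e j)) (fun _ _ => Nat.zero_le _) (Finset.mem_univ j)
    have heq : c ^ K • x = ∑ j, (a j * c ^ (K - k (e j))) • g j + ∑ i, t i • b i := by
      simp only [t, g, smul_sub, Finset.sum_sub_distrib, Finset.smul_sum, smul_smul, Finset.sum_smul]
      rw [Finset.sum_comm (γ := Fin ne), sub_add_cancel, ← ha, Finset.smul_sum]
      refine Finset.sum_congr rfl fun j _ => ?_
      rw [smul_smul, mul_assoc, ← pow_add, Nat.sub_add_cancel (hK j), mul_comm]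
    have hsum : ∑ i, t i • b i ∈ I := by
      have hx' : c ^ K • x ∈ I := Submodule.smul_of_tower_mem _ _ hx
      rw [heq] at hx'
      exact (add_mem_cancel_left (sum_mem fun j _ => Submodule.smul_of_tower_mem _ _ (hkr (e j)))).mp hx'
    have hterm : c • ∑ i, t i • b i ∈ z.asIdeal := by
      rw [Finset.smul_sum]
      refine sum_mem fun i _ => ?_
      rw [smul_smul]
      obtain ⟨m, hm⟩ := hrel t hsum i
      refine z.isPrime.mem_of_pow_mem m ?_
      rw [smul_pow, hm, zero_smul]
      exact zero_mem _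
    have h2 : c • c ^ K • x ∈ z.asIdeal := by
      rw [heq, smul_add]
      exact add_mem (Submodule.smul_of_tower_mem _ _ (sum_mem fun j _ => Submodule.smul_of_tower_mem _ _ (hzG j))) hterm
    rw [smul_smul, ← pow_succ', Algebra.smul_def, map_pow] at h2
    exact (z.isPrime.mem_or_mem h2).resolve_left fun h => hzc (z.isPrime.mem_of_pow_mem _ h)
  obtain ⟨p₀, hp₀⟩ := hc
  obtain ⟨p, -, hcp, hpmin⟩ := exists_minimal_mem c p₀ hp₀
  obtain ⟨z, hzI, hzp⟩ := himg p fun hh => hcp (Ideal.mem_of_dvd _ hhc hh)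
  have hzmin : ∀ z' : PrimeSpectrum A, z' ≤ z → z' = z := fun z' hle => by
    have hle' : z'.asIdeal.comap (algebraMap R A) ≤ p.asIdeal := by
      rw [← hzp]
      exact Ideal.comap_mono hle
    refine PrimeSpectrum.ext (Algebra.QuasiFinite.eq_of_le_of_under_eq (R := R) _ _ hle ?_)
    exact (le_antisymm hle' (hpmin.2 ⟨Ideal.comap_isPrime _ _, bot_le⟩ hle')).trans (congrArg PrimeSpectrum.asIdeal hzp).symm
  have hloc : ∀ j, ∃ s ∉ z.asIdeal, ∃ m : ℕ, s * g j ^ m = 0 := fun j => by
    obtain ⟨m, hm⟩ : IsNilpotent (algebraMap A (Localization.AtPrime z.asIdeal) (g j)) := by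
      rw [nilpotent_iff_mem_prime]
      intro J hJ
      let z' : PrimeSpectrum A := PrimeSpectrum.comap (algebraMap A (Localization.AtPrime z.asIdeal)) ⟨J, hJ⟩
      have hle : z' ≤ z := fun a ha => by
        by_contra hza
        exact hJ.ne_top (J.eq_top_of_isUnit_mem ha (IsLocalization.map_units _ (⟨a, hza⟩ : z.asIdeal.primeCompl)))
      show g j ∈ z'.asIdeal
      rw [hzmin z' hle]
      exact hzI (hkr (e j))
    rw [← map_pow, IsLocalization.map_eq_zero_iff z.asIdeal.primeCompl] at hm
    obtain ⟨⟨s, hs⟩, hsm⟩ := hm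
    exact ⟨s, hs, m, hsm⟩
  choose s hs m hsm using hloc
  have hcz : algebraMap R A c ∉ z.asIdeal := fun h => hcp (by rw [← hzp]; exact h)
  let w := algebraMap R A c * ∏ j, s j
  have hw : w ∉ z.asIdeal := fun hmem => by
    rcases z.isPrime.mem_or_mem hmem with h1 | h1
    · exact hcz h1
    · obtain ⟨j, -, hj⟩ := z.isPrime.prod_mem_iff.mp h1
      exact hs j hj
  have hsub : (PrimeSpectrum.basicOpen w : Set (PrimeSpectrum A)) ⊆ PrimeSpectrum.zeroLocus (I : Set A) := by
    intro z' hz'
    have hz'w : w ∉ z'.asIdeal := hz'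
    refine hzero z' (fun h => hz'w (Ideal.mul_mem_right _ _ h)) fun j => ?_
    have hsj : s j ∉ z'.asIdeal := fun h =>
      hz'w (Ideal.mul_mem_left _ _ (z'.isPrime.prod_mem_iff.mpr ⟨j, Finset.mem_univ j, h⟩))
    have := z'.isPrime.mem_or_mem (show s j * g j ^ m j ∈ z'.asIdeal by rw [hsm j]; exact zero_mem _)
    exact z'.isPrime.mem_of_pow_mem _ (this.resolve_left hsj)
  have := interior_maximal hsub (PrimeSpectrum.basicOpen w).2 (show z ∈ _ from hw)
  rw [hI] at this
  exact this

end GrothLib.QFDense6
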