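import Groth.Agent.Lib.QFDense6.Ring
import Mathlib.AlgebraicGeometry.Morphisms.QuasiFinite
import Mathlib.AlgebraicGeometry.Morphisms.Finite

/-!
# Images of nowhere dense sets under quasi-finite morphisms
-/

universe u

open AlgebraicGeometry CategoryTheory

namespace GrothLib.QFDense6

theorem finite_away_map {R A : Type u} [CommRing R] [CommRing A] [Algebra R A] [Algebra.QuasiFinite R A]
    [Algebra.FiniteType R A] (p : Ideal R) [p.IsPrime] (hp : p ∈ minimalPrimes R) :
    ∃ h ∉ p, ∀ (g : R) (R' A' : Type u) [CommRing R'] [CommRing A'] [Algebra R R'] [Algebra A A']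
      [IsLocalization.Away g R'] [IsLocalization.Away (algebraMap R A g) A'],
        h ∣ g → (IsLocalization.Away.map R' A' (algebraMap R A) g).Finite := by
  obtain ⟨h, hh, hfin⟩ := exists_away_finite (R := R) (A := A) p hp
  refine ⟨h, hh, fun g R' A' _ _ _ _ _ _ hdvd => ?_⟩
  let φ := IsLocalization.Away.map R' A' (algebraMap R A) g
  letI := φ.toAlgebra
  letI : Algebra R A' := ((algebraMap A A').comp (algebraMap R A)).toAlgebra
  haveI : IsScalarTower R A A' := IsScalarTower.of_algebraMap_eq fun _ => rfl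
  haveI : IsScalarTower R R' A' := IsScalarTower.of_algebraMap_eq fun x => by
    show algebraMap A A' (algebraMap R A x) = φ (algebraMap R R' x)
    simp [φ, IsLocalization.Away.map]
  exact hfin g R' A' hdvd

theorem isNowhereDense_image_comap {R A : Type u} [CommRing R] [CommRing A] [Algebra R A]
    [Algebra.QuasiFinite R A] [Algebra.FiniteType R A] (T : Set (PrimeSpectrum A)) (hT : IsClosed T)
    (hT' : IsNowhereDense T) : IsNowhereDense (PrimeSpectrum.comap (algebraMap R A) '' T) := by
  rw [IsNowhereDense, Set.eq_empty_iff_forall_notMem]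
  intro p₀ hp₀
  obtain ⟨_, ⟨h₀, rfl⟩, hp₀h, hsub⟩ := PrimeSpectrum.isTopologicalBasis_basic_opens.exists_subset_of_mem_open
    hp₀ isOpen_interior
  obtain ⟨p, -, hph, hpmin⟩ := exists_minimal_mem h₀ p₀ hp₀h
  obtain ⟨h, hh, hfin⟩ := finite_away_map (R := R) (A := A) p.asIdeal hpmin
  let g := h₀ * h
  let R' := Localization.Away g
  let A' := Localization.Away (algebraMap R A g)
  let φ := IsLocalization.Away.map R' A' (algebraMap R A) g
  have hφ : φ.Finite := hfin g R' A' ⟨h₀, mul_comm _ _⟩
  letI := φ.toAlgebra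
  haveI : Module.Finite R' A' := hφ
  let jR := PrimeSpectrum.comap (algebraMap R R')
  let jA := PrimeSpectrum.comap (algebraMap A A')
  have hjR : Topology.IsOpenEmbedding jR := PrimeSpectrum.localization_away_isOpenEmbedding R' g
  have hjA : Topology.IsOpenEmbedding jA := PrimeSpectrum.localization_away_isOpenEmbedding A' (algebraMap R A g)
  have hcomm : ∀ z, jR (PrimeSpectrum.comap φ z) = PrimeSpectrum.comap (algebraMap R A) (jA z) := fun z => by
    show PrimeSpectrum.comap _ (PrimeSpectrum.comap _ z) = PrimeSpectrum.comap _ (PrimeSpectrum.comap _ z)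
    rw [← PrimeSpectrum.comap_comp_apply, ← PrimeSpectrum.comap_comp_apply]
    exact congrArg (fun k => PrimeSpectrum.comap k z) (RingHom.ext fun x => by simp [φ, IsLocalization.Away.map])
  let T' := jA ⁻¹' T
  have hT'' : IsClosed T' := hT.preimage hjA.continuous
  let I := PrimeSpectrum.vanishingIdeal T'
  have hzero : PrimeSpectrum.zeroLocus (I : Set A') = T' := by
    rw [PrimeSpectrum.zeroLocus_vanishingIdeal_eq_closure, hT''.closure_eq]
  refine false_of_finite (R := R') I (PrimeSpectrum.isRadical_vanishingIdeal T') ?_ 1 ?_ ?_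
  · rw [hzero, ← hjA.isOpenMap.preimage_interior_eq_interior_preimage hjA.continuous,
      hT.isNowhereDense_iff.mp hT', Set.preimage_empty]
  · obtain ⟨q, -⟩ := (PrimeSpectrum.localization_away_comap_range R' g).symm.subset
      (show p ∈ (PrimeSpectrum.basicOpen g : Set (PrimeSpectrum R)) from fun hm =>
        (p.isPrime.mem_or_mem hm).elim hph hh)
    exact ⟨q, fun hq => q.isPrime.ne_top ((Ideal.eq_top_iff_one _).mpr hq)⟩
  · intro q _
    rw [hzero]
    have hclosed : IsClosed (PrimeSpectrum.comap φ '' T') :=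
      PrimeSpectrum.isClosedMap_comap_of_isIntegral φ hφ.to_isIntegral _ hT''
    have hq : q ∈ jR ⁻¹' closure (PrimeSpectrum.comap (algebraMap R A) '' T) := by
      refine interior_subset (s := closure _) (hsub ?_)
      have : jR q ∈ (PrimeSpectrum.basicOpen g : Set (PrimeSpectrum R)) :=
        (PrimeSpectrum.localization_away_comap_range R' g).subset ⟨q, rfl⟩
      exact fun hm => this (Ideal.mul_mem_right _ _ hm)
    rw [hjR.isOpenMap.preimage_closure_eq_closure_preimage hjR.continuous] at hq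
    have hpre : jR ⁻¹' (PrimeSpectrum.comap (algebraMap R A) '' T) ⊆ PrimeSpectrum.comap φ '' T' := by
      rintro v ⟨z, hz, hzv⟩
      obtain ⟨z', hz'⟩ := (PrimeSpectrum.localization_away_comap_range A' (algebraMap R A g)).symm.subset
        (show z ∈ (PrimeSpectrum.basicOpen (algebraMap R A g) : Set (PrimeSpectrum A)) from fun hm =>
          (PrimeSpectrum.localization_away_comap_range R' g).subset ⟨v, rfl⟩ (by
            show g ∈ (jR v).asIdeal
            rw [← hzv]
            exact hm))
      subst hz'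
      exact ⟨z', hz, hjR.injective ((hcomm z').trans hzv)⟩
    exact closure_minimal hpre hclosed hq

theorem isNowhereDense_union {α : Type*} [TopologicalSpace α] {s t : Set α} (hs : IsNowhereDense s)
    (ht : IsNowhereDense t) : IsNowhereDense (s ∪ t) := by
  rw [IsNowhereDense, closure_union, interior_union_isClosed_of_interior_empty isClosed_closure ht]
  exact hs

theorem isNowhereDense_iUnion_finite {α ι : Type*} [TopologicalSpace α] [Finite ι] (s : ι → Set α)
    (hs : ∀ i, IsNowhereDense (s i)) : IsNowhereDense (⋃ i, s i) := by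
  classical
  haveI := Fintype.ofFinite ι
  suffices ∀ F : Finset ι, IsNowhereDense (⋃ i ∈ F, s i) by simpa using this Finset.univ
  intro F
  induction F using Finset.induction with
  | empty => simp [isNowhereDense_empty]
  | insert a F _ ih =>
    rw [Finset.set_biUnion_insert]
    exact isNowhereDense_union (hs a) ih

variable {X Y : Scheme.{u}}

theorem isNowhereDense_image_affine (f : Y ⟶ X) [LocallyQuasiFinite f] [LocallyOfFiniteType f]
    {V : X.Opens} (hV : IsAffineOpen V) {W : Y.Opens} (hW : IsAffineOpen W) (e : W ≤ f ⁻¹ᵁ V)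
    (T : Set ↑Y) (hT : IsClosed T) (hT' : IsNowhereDense T) : IsNowhereDense (f '' (T ∩ W)) := by
  let R : CommRingCat.{u} := Γ(X, V)
  let A : CommRingCat.{u} := Γ(Y, W)
  letI := (f.appLE V W e).hom.toAlgebra
  haveI : Algebra.FiniteType R A := HasRingHomProperty.appLE @LocallyOfFiniteType f inferInstance ⟨V, hV⟩ ⟨W, hW⟩ e
  haveI : Algebra.QuasiFinite R A := HasRingHomProperty.appLE @LocallyQuasiFinite f inferInstance ⟨V, hV⟩ ⟨W, hW⟩ e
  have hsq : hW.fromSpec ≫ f = Spec.map (CommRingCat.ofHom (algebraMap R A)) ≫ hV.fromSpec :=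
    (hV.SpecMap_appLE_fromSpec f hW e).symm
  let T₀ : Set (PrimeSpectrum A) := hW.fromSpec ⁻¹' T
  have hT₀ : IsClosed T₀ := hT.preimage hW.fromSpec.continuous
  have hT₀' : IsNowhereDense T₀ := by
    rw [hT₀.isNowhereDense_iff]
    show interior (hW.fromSpec ⁻¹' T) = ∅
    rw [← hW.fromSpec.isOpenEmbedding.isOpenMap.preimage_interior_eq_interior_preimage hW.fromSpec.continuous,
      hT.isNowhereDense_iff.mp hT', Set.preimage_empty]
  have h := (hV.fromSpec.isOpenEmbedding.isInducing).isNowhereDense_image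
    (isNowhereDense_image_comap (R := R) T₀ hT₀ hT₀')
  refine h.mono ?_
  rintro _ ⟨y, ⟨hyT, hyW⟩, rfl⟩
  obtain ⟨q, rfl⟩ := hW.range_fromSpec.symm.subset hyW
  refine ⟨_, ⟨q, hyT, rfl⟩, ?_⟩
  rw [← Scheme.Hom.comp_apply hW.fromSpec f, hsq]
  rfl

theorem isNowhereDense_image (f : Y ⟶ X) [LocallyQuasiFinite f] [LocallyOfFiniteType f] [QuasiCompact f]
    (T : Set ↑Y) (hT : IsClosed T) (hT' : IsNowhereDense T) : IsNowhereDense (f '' T) := by
  rw [IsNowhereDense, Set.eq_empty_iff_forall_notMem]
  intro x hx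
  obtain ⟨_, ⟨(V : X.Opens), hV, rfl⟩, hxV, hVsub⟩ := X.isBasis_affineOpens.exists_subset_of_mem_open
    hx isOpen_interior
  obtain ⟨t, ht, htf, htcov⟩ := Y.isBasis_affineOpens.exists_finite_of_isCompact
    (U := f ⁻¹ᵁ V) (QuasiCompact.isCompact_preimage (f := f) (V : Set X) V.2 hV.isCompact)
  haveI := htf.to_subtype
  let N : t → Set X := fun W => f '' (T ∩ (W.1 : Y.Opens))
  have hle : ∀ W : t, (W.1 : Y.Opens) ≤ f ⁻¹ᵁ V := fun W y hy => by
    show y ∈ f ⁻¹ᵁ V
    rw [htcov]
    exact TopologicalSpace.Opens.mem_sSup.mpr ⟨W.1, W.2, hy⟩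
  have hN : IsNowhereDense (⋃ W, N W) := isNowhereDense_iUnion_finite N fun W =>
    isNowhereDense_image_affine f hV (ht W.2) (hle W) T hT hT'
  have hsub : f '' T ∩ V ⊆ ⋃ W, N W := by
    rintro _ ⟨⟨y, hyT, rfl⟩, hyV⟩
    have : y ∈ f ⁻¹ᵁ V := hyV
    rw [htcov] at this
    obtain ⟨W, hW, hyW⟩ := TopologicalSpace.Opens.mem_sSup.mp this
    exact Set.mem_iUnion.mpr ⟨⟨W, hW⟩, y, ⟨hyT, hyW⟩, rfl⟩
  have hcl : (V : Set X) ⊆ closure (⋃ W, N W) := fun v hv =>
    closure_mono hsub (closure_mono (Set.inter_comm _ _).subset (V.2.inter_closure ⟨hv, interior_subset (hVsub hv)⟩))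
  have := interior_maximal hcl V.2 hxV
  rw [hN] at this
  exact this

end GrothLib.QFDense6
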